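import Groth.Agent.H23.MulTangent
import Groth.Agent.H23.MulEtale
import Groth.Agent.AVSubLib.Density

/-!
Schematic density of `p`-power torsion subschemes of a proper group variety.
-/

set_option autoImplicit false
set_option backward.isDefEq.respectTransparency false
set_option backward.isDefEq.respectTransparency.types false
set_option linter.style.haveILetI false
set_option maxHeartbeats 1000000

universe u

open CategoryTheory CategoryTheory.Limits AlgebraicGeometry MonoidalCategory CartesianMonoidalCategory MonObj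
open Groth.Agent.GrpSchLib Groth.Agent.H23 Groth.Agent.H23.MulTangent

noncomputable section

namespace Groth.Agent.PTorsDense

variable {K : Type u} [Field K]

section Chart

variable {X : Over (Spec (CommRingCat.of K))} [GrpObj X] {B : Type u} [CommRing B] [Algebra K B]
  (j : Spec (CommRingCat.of B) ⟶ X.left) [IsOpenImmersion j]
  (hj : j ≫ X.hom = Spec.map (CommRingCat.ofHom (algebraMap K B)))
  {χ : B →ₐ[K] K} (hone : pt j hj χ = 1)

variable (χ) in
/-- The infinitesimal neighbourhoods of the section. -/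
abbrev nbhd (N : ℕ) : Type u := B ⧸ (RingHom.ker χ) ^ N

variable (χ) in
/-- The constant map. -/
def cst (N : ℕ) : B →ₐ[K] nbhd χ N := (Algebra.ofId K (nbhd χ N)).comp χ

include hone in
theorem pt_cst (N : ℕ) : pt j hj (cst χ N) = 1 := by
  rw [cst, ← pt_comp, hone, MonObj.comp_one]

theorem subsingleton_nbhd (N : ℕ) : Subsingleton (PrimeSpectrum (nbhd χ N)) := by
  haveI hmax : (RingHom.ker χ).IsMaximal := RingHom.ker_isMaximal_of_surjective χ fun t => ⟨algebraMap K B t, by simp⟩
  refine ⟨fun P Q => ?_⟩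
  apply PrimeSpectrum.comap_injective_of_surjective (Ideal.Quotient.mk _) Ideal.Quotient.mk_surjective
  have h : ∀ R : PrimeSpectrum (nbhd χ N),
      (PrimeSpectrum.comap (Ideal.Quotient.mk ((RingHom.ker χ) ^ N)) R).asIdeal = RingHom.ker χ := fun R => by
    refine (hmax.eq_of_le (PrimeSpectrum.comap _ R).2.ne_top ?_).symm
    intro b hb
    refine (PrimeSpectrum.comap _ R).2.mem_of_pow_mem N ?_
    show Ideal.Quotient.mk _ (b ^ N) ∈ R.asIdeal
    rw [Ideal.Quotient.eq_zero_iff_mem.2 (Ideal.pow_mem_pow hb N)]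
    exact R.asIdeal.zero_mem
  exact PrimeSpectrum.ext ((h P).trans (h Q).symm)

/-- The universal tangent space. -/
abbrev cot : Type u := B ⧸ ((RingHom.ker χ) ^ 2).restrictScalars K

include hone in
theorem pow_char_tangent {p : ℕ} (hp : (p : K) = 0) (M : Type u) [AddCommGroup M] [Module K M]
    [Module Kᵐᵒᵖ M] [IsCentralScalar K M] (g : B →ₐ[K] TrivSqZeroExt K M)
    (hg : (TrivSqZeroExt.fstHom K K M).comp g = χ) : pt j hj g ^ p = 1 := by
  let c : B →ₐ[K] TrivSqZeroExt K M := (TrivSqZeroExt.inlAlgHom K K M).comp χ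
  have hc : pt j hj c = 1 := by rw [← pt_comp, hone, MonObj.comp_one]
  have key : ∀ m : ℕ, ∃ gm : B →ₐ[K] TrivSqZeroExt K M, pt j hj gm = pt j hj g ^ m ∧
      (TrivSqZeroExt.fstHom K K M).comp gm = χ ∧ ∀ b, (gm b).snd = (m : K) • (g b).snd := by
    intro m
    induction m with
    | zero =>
      exact ⟨c, by rw [hc, _root_.pow_zero], by ext b; simp [c], fun b => by simp [c]⟩
    | succ m ih =>
      obtain ⟨gm, h1, h2, h3⟩ := ih
      obtain ⟨g', hg', h⟩ := exists_pt j hj M (pt j hj gm * pt j hj g) (by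
        rw [MonObj.comp_mul, pt_comp, pt_comp, h2, hg, hone, _root_.mul_one])
      exact ⟨g', by rw [h, h1, _root_.pow_succ], hg', fun b => by
        rw [snd_mul j hj M hone h2 hg h.symm, h3, Nat.cast_succ, add_smul, one_smul]⟩
  obtain ⟨gp, h1, h2, h3⟩ := key p
  rw [← h1, show gp = c from AlgHom.ext fun b => TrivSqZeroExt.ext
    (by simpa [c] using AlgHom.congr_fun h2 b) (by simp [c, h3, hp]), hc]

include hone in
theorem exists_pow_nbhd (p : ℕ) (hp : (p : K) = 0) : ∀ N : ℕ, ∃ M : ℕ,
    pt j hj (Ideal.Quotient.mkₐ K ((RingHom.ker χ) ^ N)) ^ p ^ M = 1 := by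
  have h2 : pt j hj (Ideal.Quotient.mkₐ K ((RingHom.ker χ) ^ 2)) ^ p = 1 := by
    let V := (RingHom.ker χ) ^ 2
    let M : Type u := B ⧸ (V.restrictScalars K)
    letI : Module Kᵐᵒᵖ M := Module.compHom M ((RingHom.id K).fromOpposite mul_comm)
    haveI : IsCentralScalar K M := ⟨fun _ _ => rfl⟩
    let q : B →ₗ[K] M := (V.restrictScalars K).mkQ
    let f : B →ₗ[K] B := LinearMap.id - (Algebra.linearMap K B).comp χ.toLinearMap
    have hf : ∀ b, f b ∈ RingHom.ker χ := fun b => by simp [f, RingHom.mem_ker]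
    have hmul : ∀ a b, q (f (a * b)) = χ a • q (f b) + χ b • q (f a) := fun a b => by
      rw [show χ a • q (f b) + χ b • q (f a) = q (χ a • f b + χ b • f a) by simp only [map_add, map_smul]]
      refine (Submodule.Quotient.eq _).2 ?_
      have : f (a * b) - (χ a • f b + χ b • f a) = f a * f b := by
        simp [f, Algebra.smul_def]; ring
      rw [this]
      show f a * f b ∈ V
      simp only [V, pow_two]
      exact Ideal.mul_mem_mul (hf a) (hf b)
    have h1 : q (f 1) = 0 := by simp [f]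
    let g : B →ₐ[K] TrivSqZeroExt K M := AlgHom.ofLinearMap
      ((TrivSqZeroExt.inlAlgHom K K M).toLinearMap ∘ₗ χ.toLinearMap + (TrivSqZeroExt.inrHom K M) ∘ₗ (q ∘ₗ f))
      (by ext <;> simp [h1])
      (fun a b => by
        ext
        · simp
        · simp [hmul])
    have hg : (TrivSqZeroExt.fstHom K K M).comp g = χ := by ext b; simp [g]
    let π₀ : M →ₗ[K] nbhd χ 2 := (V.restrictScalars K).liftQ (Ideal.Quotient.mkₐ K V).toLinearMap
      (fun b hb => Ideal.Quotient.eq_zero_iff_mem.2 hb)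
    have hq : ∀ b, π₀ (q (f b)) = Ideal.Quotient.mk V (f b) := fun b => Submodule.liftQ_apply _ _ _
    have hrep : ∀ m : M, ∃ b, q b = m := fun m => (Submodule.mkQ_surjective _) m
    -- the kernel part of the quotient
    let P : M →ₗ[K] M := (V.restrictScalars K).liftQ (q ∘ₗ f) (fun b hb => by
      have hχ : χ b = 0 := RingHom.mem_ker.1 (Ideal.pow_le_self (by norm_num) hb)
      show q (f b) = 0
      rw [show f b = b by simp [f, hχ]]
      exact (Submodule.Quotient.mk_eq_zero _).2 hb)
    have hP : ∀ m, ∃ b ∈ RingHom.ker χ, q b = P m := fun m => by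
      obtain ⟨b, rfl⟩ := hrep m
      exact ⟨f b, hf b, (Submodule.liftQ_apply (V.restrictScalars K) (q ∘ₗ f) b).symm⟩
    have hsq : ∀ m m', π₀ (P m) * π₀ (P m') = 0 := fun m m' => by
      obtain ⟨a, ha, ha'⟩ := hP m
      obtain ⟨b, hb, hb'⟩ := hP m'
      rw [← ha', ← hb']
      show Ideal.Quotient.mk V a * Ideal.Quotient.mk V b = 0
      rw [← map_mul]
      refine Ideal.Quotient.eq_zero_iff_mem.2 ?_
      simp only [V, pow_two]
      exact Ideal.mul_mem_mul ha hb
    let ψ : TrivSqZeroExt K M →ₐ[K] nbhd χ 2 :=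
      TrivSqZeroExt.lift (Algebra.ofId K _) (π₀ ∘ₗ P) hsq
        (fun r x => by rw [map_smul, Algebra.smul_def]; rfl)
        (fun r x => by rw [op_smul_eq_smul, map_smul, Algebra.smul_def, mul_comm]; rfl)
    have hψ : ψ.comp g = Ideal.Quotient.mkₐ K V := by
      ext b
      have hPq : P (q (f b)) = q (f b) := by
        rw [show P (q (f b)) = q (f (f b)) from Submodule.liftQ_apply _ _ _, show f (f b) = f b by simp [f]]
      have : ψ (g b) = algebraMap K _ (χ b) + π₀ (P (q (f b))) := by
        simp [ψ, g, TrivSqZeroExt.lift_def]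
      rw [AlgHom.comp_apply, this, hPq, hq, show f b = b - algebraMap K B (χ b) from rfl, map_sub]
      exact add_sub_cancel _ _
    rw [← hψ, ← pt_comp, ← MonObj.comp_pow, pow_char_tangent j hj hone hp M g hg, MonObj.comp_one]
  intro N
  induction N using Nat.strong_induction_on with
  | _ N ih =>
    by_cases hN : N ≤ 2
    · refine ⟨1, ?_⟩
      rw [pow_one, show Ideal.Quotient.mkₐ K ((RingHom.ker χ) ^ N) = (Ideal.Quotient.factorₐ K
          (Ideal.pow_le_pow_right hN)).comp (Ideal.Quotient.mkₐ K ((RingHom.ker χ) ^ 2)) from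
        (Ideal.Quotient.factorₐ_comp_mk K _).symm, ← pt_comp, ← MonObj.comp_pow, h2, MonObj.comp_one]
    · set e := pt j hj (Ideal.Quotient.mkₐ K ((RingHom.ker χ) ^ N))
      have he : ∀ {n : ℕ} (hn : n ≤ N), specHom (Ideal.Quotient.factorₐ K (Ideal.pow_le_pow_right (I := RingHom.ker χ) hn)) ≫ e
          = pt j hj (Ideal.Quotient.mkₐ K ((RingHom.ker χ) ^ n)) := fun hn => by
        rw [pt_comp, Ideal.Quotient.factorₐ_comp_mk]
      have hr : Set.range (e ^ p).left ⊆ Set.range j := by
        have hsub := subsingleton_nbhd (χ := χ) N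
        rintro _ ⟨q, rfl⟩
        let π₂ := Ideal.Quotient.factorₐ K (Ideal.pow_le_pow_right (I := RingHom.ker χ) (show 2 ≤ N by omega))
        have hnt : Nontrivial (nbhd χ 2) := Ideal.Quotient.nontrivial_iff.2 fun h => RingHom.ker_ne_top χ
          (top_le_iff.1 (h ▸ Ideal.pow_le_self (by norm_num)))
        obtain ⟨p₀⟩ := (inferInstance : Nonempty (PrimeSpectrum (nbhd χ 2)))
        have e0 : (specHom π₂).left p₀ = q := Subsingleton.elim (α := PrimeSpectrum _) _ _
        rw [← e0, ← Scheme.Hom.comp_apply]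
        refine ⟨(Spec.map (CommRingCat.ofHom (cst χ 2).toRingHom)) p₀, ?_⟩
        have hk : specHom π₂ ≫ e ^ p = pt j hj (cst χ 2) := by
          rw [MonObj.comp_pow, he (show 2 ≤ N by omega), h2, pt_cst j hj hone]
        exact (congrArg (fun m : specOver K (nbhd χ 2) ⟶ X => m.left p₀) hk).symm
      obtain ⟨g, hg⟩ := exists_pt_of_range j hj (e ^ p) hr
      let h := (N + 1) / 2
      have hk2 : ∀ a ∈ RingHom.ker χ, g a ∈ ((RingHom.ker χ) ^ 2).map (Ideal.Quotient.mkₐ K ((RingHom.ker χ) ^ N)) := by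
        intro a ha
        let π₂ := Ideal.Quotient.factorₐ K (Ideal.pow_le_pow_right (I := RingHom.ker χ) (show 2 ≤ N by omega))
        have hk : π₂.comp g = cst χ 2 := pt_injective j hj (by
          rw [← pt_comp, hg, MonObj.comp_pow, he (show 2 ≤ N by omega), h2, pt_cst j hj hone])
        have ha0 : π₂ (g a) = 0 := by
          rw [← AlgHom.comp_apply, hk]
          simp [cst, RingHom.mem_ker.1 ha]
        obtain ⟨b, hb⟩ := Ideal.Quotient.mk_surjective (g a)
        rw [← hb] at ha0 ⊢
        exact Ideal.mem_map_of_mem _ (Ideal.Quotient.eq_zero_iff_mem.1 ha0)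
      have hvan : ∀ a ∈ (RingHom.ker χ) ^ h, g a = 0 := by
        intro a ha
        have h1 : ((RingHom.ker χ) ^ h).map g ≤ ((RingHom.ker χ) ^ (2 * h)).map (Ideal.Quotient.mkₐ K ((RingHom.ker χ) ^ N)) := by
          rw [Ideal.map_pow, pow_mul, Ideal.map_pow]
          refine Ideal.pow_right_mono ?_ h
          rw [Ideal.map_le_iff_le_comap]
          exact hk2
        have h2' : ((RingHom.ker χ) ^ (2 * h)).map (Ideal.Quotient.mkₐ K ((RingHom.ker χ) ^ N)) = ⊥ := by
          refine eq_bot_iff.2 (Ideal.map_le_iff_le_comap.2 fun b hb => ?_)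
          exact Ideal.Quotient.eq_zero_iff_mem.2 (Ideal.pow_le_pow_right (by omega) hb)
        exact (Submodule.mem_bot _).1 (h2' ▸ h1 (Ideal.mem_map_of_mem _ ha))
      let ψ := Ideal.Quotient.liftₐ ((RingHom.ker χ) ^ h) g hvan
      obtain ⟨M, hM⟩ := ih h (by omega)
      refine ⟨M + 1, ?_⟩
      rw [pow_succ', pow_mul, ← hg, show g = ψ.comp (Ideal.Quotient.mkₐ K ((RingHom.ker χ) ^ h)) from
        (Ideal.Quotient.liftₐ_comp _ _ _).symm, ← pt_comp, ← MonObj.comp_pow, hM, MonObj.comp_one]

end Chart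

end Groth.Agent.PTorsDense
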