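import Groth.Agent.PTorsDense.Basic
import Mathlib.RingTheory.Filtration

/-!
Schematic density of `p`-power torsion.
-/

set_option autoImplicit false
set_option backward.isDefEq.respectTransparency false
set_option backward.isDefEq.respectTransparency.types false
set_option linter.style.haveILetI false
set_option maxHeartbeats 1000000

universe u

open CategoryTheory CategoryTheory.Limits AlgebraicGeometry MonoidalCategory CartesianMonoidalCategory MonObj
open Groth.Agent.GrpSchLib Groth.Agent.H23 Groth.Agent.H23.MulTangent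

noncomputable section

namespace Groth.Agent.PTorsDense

variable {k : Type u} [Field k] (X : Over (Spec (CommRingCat.of k))) [GrpObj X] [IsProper X.hom]
  [GeometricallyIntegral X.hom] {p : ℕ} {Z : Scheme.{u}} (c : Z ⟶ X.left) [IsClosedImmersion c]
  (hc : ∀ m : ℕ, 0 < m → ∃ t : pullback η[X].left ((𝟙 X ^ (p ^ m)).left) ⟶ Z,
      t ≫ c = pullback.snd η[X].left ((𝟙 X ^ (p ^ m)).left))

include hc in
omit [IsProper X.hom] [GeometricallyIntegral X.hom] [IsClosedImmersion c] in
theorem exists_factor {T : Over (Spec (CommRingCat.of k))} (v : T ⟶ X) (m : ℕ) (hv : v ^ p ^ m = 1) :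
    ∃ t : T.left ⟶ Z, t ≫ c = v.left := by
  have hv' : v ^ p ^ (m + 1) = 1 := by rw [pow_succ, pow_mul, hv, one_pow]
  obtain ⟨t, ht⟩ := hc (m + 1) (by omega)
  have h : v ≫ (𝟙 X ^ p ^ (m + 1) : X ⟶ X) = toUnit T ≫ η[X] := by
    rw [MonObj.comp_pow, Category.comp_id, hv']
    rfl
  exact ⟨pullback.lift (toUnit T).left v.left (congrArg CommaMorphism.left h).symm ≫ t,
    by rw [Category.assoc, ht, pullback.lift_snd]⟩

include hc in
theorem surjective_of_char_eq (hp : (p : k) = 0) : Surjective c := by
  haveI : IsIntegral X.left := GeometricallyIntegral.isIntegral_of_subsingleton X.hom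
  obtain ⟨B, _, _, j, _, hj, χ, hχ⟩ := exists_chart η[X]
  have hone : pt j hj χ = 1 := hχ.trans rfl
  haveI hnt : Nontrivial B := (χ : B →+* k).domain_nontrivial
  haveI : Nonempty (Spec (CommRingCat.of B)) := (inferInstance : Nonempty (PrimeSpectrum B))
  haveI : IsIntegral (Spec (CommRingCat.of B)) := isIntegral_of_isOpenImmersion j
  haveI : IsDomain B := (affine_isIntegral_iff (CommRingCat.of B)).1 ‹_›
  haveI : LocallyOfFiniteType (j ≫ X.hom) := inferInstance
  haveI : IsNoetherianRing B := by
    haveI h : LocallyOfFiniteType (Spec.map (CommRingCat.ofHom (algebraMap k B))) := hj ▸ ‹_›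
    rw [HasRingHomProperty.Spec_iff (P := @LocallyOfFiniteType)] at h
    haveI : Algebra.FiniteType k B := RingHom.finiteType_algebraMap.1 h
    exact Algebra.FiniteType.isNoetherianRing k B
  let c' := pullback.snd c j
  haveI hc' : IsClosedImmersion c' := inferInstanceAs (IsClosedImmersion (pullback.snd c j))
  obtain ⟨J, e, he⟩ := (IsClosedImmersion.Spec_iff (R := CommRingCat.of B) (f := c')).1 hc'
  have hJ : J = ⊥ := by
    refine eq_bot_iff.2 fun b hb => ?_
    have hkr := Ideal.iInf_pow_eq_bot_of_isDomain _ (RingHom.ker_ne_top χ)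
    rw [← hkr, Ideal.mem_iInf]
    intro N
    obtain ⟨M, hM⟩ := exists_pow_nbhd j hj hone p hp N
    let q := Ideal.Quotient.mkₐ k ((RingHom.ker χ) ^ N)
    obtain ⟨t, ht⟩ := exists_factor X c hc (pt j hj q) M hM
    let l := pullback.lift t (Spec.map (CommRingCat.ofHom q.toRingHom)) ht
    obtain ⟨ψ, hψ⟩ := Spec.map_surjective (l ≫ e.hom)
    have h : Spec.map (CommRingCat.ofHom q.toRingHom) = Spec.map ψ ≫ Spec.map (CommRingCat.ofHom (Ideal.Quotient.mk J)) := by
      rw [hψ, Category.assoc, ← he]
      exact (pullback.lift_snd _ _ _).symm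
    rw [← Spec.map_comp] at h
    have h' := congrArg (fun f => f.hom b) (Spec.map_injective h)
    simp only [CommRingCat.hom_comp, CommRingCat.hom_ofHom, RingHom.comp_apply] at h'
    rw [Ideal.Quotient.eq_zero_iff_mem.2 hb, map_zero] at h'
    exact Ideal.Quotient.eq_zero_iff_mem.1 h'
  haveI : IsIso (Spec.map (CommRingCat.ofHom (Ideal.Quotient.mk J))) := by
    subst hJ
    haveI : IsIso (CommRingCat.ofHom (Ideal.Quotient.mk (⊥ : Ideal B))) :=
      (ConcreteCategory.isIso_iff_bijective _).2
        ⟨(injective_iff_map_eq_zero _).2 fun a ha => (Submodule.mem_bot B).1 (Ideal.Quotient.eq_zero_iff_mem.1 ha),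
          Ideal.Quotient.mk_surjective⟩
    exact inferInstanceAs (IsIso (Spec.map (CommRingCat.ofHom (Ideal.Quotient.mk (⊥ : Ideal B)))))
  haveI : IsIso c' := by rw [he]; infer_instance
  constructor
  intro x
  have hsub : Set.range j ⊆ Set.range c := by
    rintro _ ⟨z, rfl⟩
    refine ⟨pullback.fst c j (inv c' z), ?_⟩
    rw [← Scheme.Hom.comp_apply, pullback.condition, Scheme.Hom.comp_apply]
    exact congrArg j (by rw [← Scheme.Hom.comp_apply, IsIso.inv_hom_id]; rfl)
  have hd : Dense (Set.range j) := j.isOpenEmbedding.isOpen_range.dense (Set.range_nonempty j)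
  exact c.isClosedEmbedding.isClosed_range.closure_subset (closure_mono hsub (hd x))

include hc in
theorem surjective_of_char_ne (hp : p.Prime) (hp0 : (p : k) ≠ 0) : Surjective c := by
  let L := AlgebraicClosure k
  let σ : Spec (CommRingCat.of L) ⟶ Spec (CommRingCat.of k) := Spec.map (CommRingCat.ofHom (algebraMap k L))
  let Xk := (Over.pullback σ).obj X
  letI : GrpObj Xk := Functor.grpObjObj
  haveI : IsProper Xk.hom := inferInstanceAs (IsProper (pullback.snd X.hom σ))
  haveI : GeometricallyIntegral Xk.hom := inferInstanceAs (GeometricallyIntegral (pullback.snd X.hom σ))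
  haveI : IsCommMonObj Xk := isCommMonObj_of_isProper_of_geometricallyIntegral Xk
  haveI : Fact p.Prime := ⟨hp⟩
  haveI : Surjective σ := ⟨fun q => ⟨IsLocalRing.closedPoint L, Subsingleton.elim (α := PrimeSpectrum k) _ _⟩⟩
  let π : Xk.left ⟶ X.left := pullback.fst X.hom σ
  haveI : Surjective π := inferInstanceAs (Surjective (pullback.fst X.hom σ))
  have hL : (p : L) ≠ 0 := by
    rw [← map_natCast (algebraMap k L)]
    exact (map_ne_zero _).2 hp0
  have hd := AVSubLib.dense_tors Xk p hL
  constructor
  intro x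
  refine (c.isClosedEmbedding.isClosed_range.closure_subset_iff.2 ?_)
    (((π.surjective.denseRange).dense_image π.continuous hd) x)
  rintro _ ⟨_, ⟨n, a, ha, rfl⟩, rfl⟩
  let T : Over (Spec (CommRingCat.of k)) := Over.mk σ
  let v : T ⟶ X := Over.homMk (a.left ≫ π) (by
    show (a.left ≫ π) ≫ X.hom = σ
    rw [Category.assoc, pullback.condition]
    show a.left ≫ pullback.snd X.hom σ ≫ σ = σ
    rw [← Category.assoc]
    have h := Over.w a
    simp [Xk] at h
    rw [h]
    exact Category.id_comp _)
  have hnat : ∀ {Y W : Over (Spec (CommRingCat.of k))} (f : Y ⟶ W),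
      ((Over.pullback σ).map f).left ≫ pullback.fst W.hom σ = pullback.fst Y.hom σ ≫ f.left := fun f => by
    simp
  have hv : v ^ p ^ n = 1 := by
    apply Over.OverMorphism.ext
    have h1 : v ^ p ^ n = v ≫ (𝟙 X ^ p ^ n) := by rw [MonObj.comp_pow, Category.comp_id]
    have h2 : a ≫ (Over.pullback σ).map (𝟙 X ^ p ^ n) = 1 := by
      rw [MulEtale.map_pow, MonObj.comp_pow, Category.comp_id, ha]
    rw [h1]
    show (a.left ≫ π) ≫ (𝟙 X ^ p ^ n : X ⟶ X).left = _
    rw [Category.assoc, show π ≫ (𝟙 X ^ p ^ n : X ⟶ X).left = _ from (hnat _).symm, ← Category.assoc,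
      show a.left ≫ ((Over.pullback σ).map (𝟙 X ^ p ^ n)).left = _ from congrArg CommaMorphism.left h2]
    show (toUnit (𝟙_ _) ≫ η[Xk]).left ≫ pullback.fst X.hom σ = (toUnit T ≫ η[X]).left
    rw [show η[Xk] = Functor.LaxMonoidal.ε (Over.pullback σ) ≫ (Over.pullback σ).map η[X] from rfl]
    rw [Over.comp_left, Over.comp_left, Over.comp_left, Category.assoc, Category.assoc, hnat, ← Category.assoc,
      ← Category.assoc]
    congr 1
    have hu : pullback.fst (𝟙_ (Over (Spec (CommRingCat.of k)))).hom σ =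
        pullback.snd (𝟙_ (Over (Spec (CommRingCat.of k)))).hom σ ≫ σ := by
      rw [← pullback.condition]
      exact (Category.comp_id _).symm
    rw [hu]
    have h3 := Over.w ((toUnit (𝟙_ (Over (Spec (CommRingCat.of L))))) ≫ Functor.LaxMonoidal.ε (Over.pullback σ))
    rw [← Category.assoc]
    refine (congrArg (· ≫ σ) h3).trans ?_
    exact (Category.id_comp σ).trans (Category.comp_id _).symm
  obtain ⟨t, ht⟩ := exists_factor X c hc v n hv
  exact ⟨t (IsLocalRing.closedPoint L), by
    rw [← Scheme.Hom.comp_apply, ht]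
    rfl⟩

end Groth.Agent.PTorsDense
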